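import Groth.Agent.L20.BlowFlat.AlgScheme
import Groth.Agent.L13.ModPair.Product
import Groth.Agent.L02.RelCartier.CurveSum
import Groth.Agent.L13.BlowUp.Proper
import Groth.Agent.L13.Nagata.Base

/-!
# Flattening a minimal morphism of modulus pairs
-/

set_option autoImplicit false
set_option linter.style.haveILetI false
set_option linter.unusedSectionVars false
set_option backward.isDefEq.respectTransparency false
set_option backward.isDefEq.respectTransparency.types false

universe u

open CategoryTheory CategoryTheory.Limits AlgebraicGeometry TopologicalSpace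

noncomputable section

namespace Groth.L11.FlatRef

open Groth.L13.MP

/-- The ideal of the closure of the complement of a divisor is the torsion ideal. -/
theorem mem_ker_iff_killed {X : Scheme.{u}} {E : X.IdealSheafData} (hE : BlowUp.IsFiniteTypeIdeal E)
    [QuasiCompact (Scheme.Opens.ι (E.support.compl : X.Opens))] (V : X.affineOpens) (a : Γ(X, V.1)) :
    a ∈ (Scheme.Opens.ι (E.support.compl : X.Opens)).ker.ideal V ↔ BlowUp.KilledByPowerNear E (Coh.structureModule X) V a := by
  let O : X.Opens := E.support.compl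
  haveI : QuasiCompact O.ι := ‹_›
  have hiff : a ∈ O.ι.ker.ideal V ↔ ∀ (y : X) (hy : y ∈ V.1), y ∈ O → X.presheaf.germ V.1 y hy a = 0 := by
    rw [Scheme.Hom.ker_apply, RingHom.mem_ker, Scheme.Opens.ι_app]
    have hle : O.ι ''ᵁ (O.ι ⁻¹ᵁ V.1) ≤ V.1 := O.ι.image_preimage_le V.1
    constructor
    · intro h y hy hyO
      have hy' : y ∈ O.ι ''ᵁ (O.ι ⁻¹ᵁ V.1) := by
        rw [O.ι.image_preimage_eq_opensRange_inf, Scheme.Opens.opensRange_ι]; exact ⟨hyO, hy⟩
      rw [← TopCat.Presheaf.germ_res_apply X.presheaf (homOfLE hle) y hy']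
      exact (congrArg (X.presheaf.germ _ y hy') h).trans (map_zero _)
    · intro h
      refine TopCat.Presheaf.section_ext X.sheaf _ _ 0 fun y hy => ?_
      have hy' : y ∈ O ⊓ V.1 := by
        have : y ∈ O.ι ''ᵁ (O.ι ⁻¹ᵁ V.1) := hy
        rwa [O.ι.image_preimage_eq_opensRange_inf, Scheme.Opens.opensRange_ι] at this
      change X.presheaf.germ _ y hy (X.presheaf.map _ a) = X.presheaf.germ _ y hy 0
      rw [TopCat.Presheaf.germ_res_apply, map_zero]
      exact h y hy'.2 hy'.1
  show a ∈ O.ι.ker.ideal V ↔ _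
  rw [hiff]
  constructor
  · intro h
    have hrad : E.ideal V ≤ (Ideal.torsionOf Γ(X, V.1) Γ(X, V.1) a).radical := by
      intro b hb
      have h0 : TopCat.Presheaf.restrictOpen a (X.basicOpen b) (X.basicOpen_le b) = 0 := by
        refine TopCat.Presheaf.section_ext X.sheaf _ _ 0 fun y hy => ?_
        change X.presheaf.germ _ y hy (X.presheaf.map _ a) = X.presheaf.germ _ y hy 0
        rw [TopCat.Presheaf.germ_res_apply, map_zero]
        exact h y (X.basicOpen_le b hy) fun hys => (Scheme.mem_zeroLocus_iff _ _ _).1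
          ((Scheme.IdealSheafData.mem_support_iff_of_mem (U := V) (X.basicOpen_le b hy)).1 hys) b hb hy
      obtain ⟨n, hn⟩ := exists_pow_mul_eq_zero_of_res_basicOpen_eq_zero_of_isCompact X V.2.isCompact a b h0
      exact ⟨n, (Ideal.mem_torsionOf_iff _ _).2 hn⟩
    obtain ⟨n, hn⟩ := Ideal.exists_pow_le_of_le_radical_of_fg hrad (hE V)
    refine ⟨n, fun c hc => ?_⟩
    rw [Scheme.IdealSheafData.ideal_pow, Pi.pow_apply] at hc
    exact (Ideal.mem_torsionOf_iff (R := Γ(X, V.1)) (M := Γ(X, V.1)) a c).1 (hn hc)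
  · rintro ⟨n, hn⟩ y hy hyO
    obtain ⟨b, hb, hyb⟩ : ∃ b ∈ E.ideal V, y ∈ X.basicOpen b := by
      by_contra hne
      push Not at hne
      exact hyO ((Scheme.IdealSheafData.mem_support_iff_of_mem (U := V) hy).2
        ((Scheme.mem_zeroLocus_iff _ _ _).2 hne))
    have h1 : b ^ n * a = 0 := hn (b ^ n) (by
      rw [Scheme.IdealSheafData.ideal_pow, Pi.pow_apply]; exact Ideal.pow_mem_pow hb n)
    have hu : IsUnit (X.presheaf.germ V.1 y hy b) := ((X.mem_basicOpen b y hy).1 hyb)
    refine (hu.pow n).mul_right_eq_zero.1 ?_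
    rw [← map_pow, ← map_mul, h1, map_zero]

theorem support_compl_mul_eq {S : Scheme.{u}} {U : S.Opens} {J I : S.IdealSheafData}
    (hJ : Disjoint (J.support : Set S) (U : Set S)) (hI : ModPair.interior I = U) :
    (J * I).support.compl = U := by
  subst hI
  refine Opens.ext (Set.ext fun x => ?_)
  show x ∉ (J * I).support ↔ x ∉ I.support
  constructor
  · intro h hx
    exact h (by rw [Scheme.IdealSheafData.support_mul]; exact Or.inr hx)
  · intro h hx
    rw [Scheme.IdealSheafData.support_mul] at hx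
    rcases hx with hx | hx
    · exact Set.disjoint_left.1 hJ hx h
    · exact h hx

/-- A minimal morphism of finite type, flat and of finite presentation over the interior, becomes so after admissible
blow-ups. -/
theorem exists_square {X S : Scheme.{u}}
    [CompactSpace S] [QuasiSeparatedSpace S] [CompactSpace X] [QuasiSeparatedSpace X]
    (IS : S.IdealSheafData) (IX : X.IdealSheafData) (hS : BlowUp.IsEffCartierIdeal IS)
    (hX : BlowUp.IsEffCartierIdeal IX) (f : X ⟶ S) (hf : ModPair.IsMinimal IX IS f)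
    [LocallyOfFiniteType f] [Flat (f ∣_ ModPair.interior IS)]
    [LocallyOfFinitePresentation (f ∣_ ModPair.interior IS)] :
    ∃ (T : Scheme.{u}) (t : T ⟶ S) (Y : Scheme.{u}) (y : Y ⟶ X) (g : Y ⟶ T),
      BlowUp.IsEffCartierIdeal (IS.comap t) ∧ ModPair.IsAdmBlowup (IS.comap t) IS t ∧
        BlowUp.IsEffCartierIdeal (IX.comap y) ∧ ModPair.IsAdmBlowup (IX.comap y) IX y ∧
        y ≫ f = g ≫ t ∧ Flat g ∧ LocallyOfFinitePresentation g ∧ QuasiCompact g ∧
        QuasiSeparated g := by
  let U := ModPair.interior IS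
  haveI : QuasiCompact U.ι := quasiCompact_interior hS
  have hU : IsCompact (U : Set S) := isCompact_iff_compactSpace.2 (QuasiCompact.compactSpace_of_compactSpace U.ι)
  obtain ⟨J₀, hJ₀, hcentre⟩ := Groth.L20.BlowFlat.exists_centre_scheme f U hU
  let K := J₀ * IS
  have hKsupp : K.support.compl = U := support_compl_mul_eq hJ₀.2 rfl
  have hK : BlowUp.IsAdmissibleFor U K := by
    refine ⟨fun W => ?_, ?_⟩
    · show (J₀.ideal W * IS.ideal W).FG
      exact (hJ₀.1 W).mul (Groth.L02.RelCartier.fg_ideal_of_eff hS W)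
    · rw [Set.disjoint_left]
      exact fun x hx hxU => (hKsupp.ge hxU) hx
  obtain ⟨T, t, hb⟩ := Groth.L13.BU.exists_isBlowUp K
  have hISt : BlowUp.IsEffCartierIdeal (IS.comap t) := by
    have h1 := hb.1
    rw [Groth.L22.Ideals.comap_mul, mul_comm] at h1
    exact Groth.L22.Ideals.isEffCartier_left_of_mul h1
  haveI : IsProper t := Groth.L13.BU.isProper_blowUp hb hK.1
  haveI : IsIso (t ∣_ U) := by
    have h := Groth.L22.Ideals.isIso_restrict_compl hb
    rw [hKsupp] at h
    exact h
  have hadm : ModPair.IsAdmBlowup (IS.comap t) IS t := ⟨rfl, inferInstance, ‹_›⟩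
  have hamb : ModPair.IsAmbient IX IS f := le_of_eq hf
  obtain ⟨hy, -⟩ := admBlowup_snd t f hX hISt hamb hadm
  have hYeff := isEffCartier_snd t f hISt hX
  let E := (K.comap f).comap (pullback.snd t f)
  have hW : ModPair.prodInterior t f (IS.comap t) IX = E.support.compl := by
    refine Opens.ext (Set.ext fun x => ?_)
    have hc : t (pullback.fst t f x) = f (pullback.snd t f x) := by
      rw [← Scheme.Hom.comp_apply, ← Scheme.Hom.comp_apply, pullback.condition]
    have h1 : x ∈ E.support.compl ↔ f (pullback.snd t f x) ∈ U := by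
      rw [← hKsupp]
      show x ∉ E.support ↔ f (pullback.snd t f x) ∉ K.support
      rw [Scheme.IdealSheafData.support_comap, Scheme.IdealSheafData.support_comap]
      rfl
    have h2 : x ∈ ModPair.prodInterior t f (IS.comap t) IX ↔
        t (pullback.fst t f x) ∈ U ∧ f (pullback.snd t f x) ∈ U := by
      show pullback.fst t f x ∈ ModPair.interior (IS.comap t) ∧ pullback.snd t f x ∈ ModPair.interior IX ↔ _
      rw [interior_comap, minimal_interior hf]
      rfl
    exact h2.trans ((and_iff_right_of_imp fun h => hc.symm ▸ h).trans h1.symm)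
  haveI : QuasiCompact (Scheme.Opens.ι (E.support.compl : (pullback t f).Opens)) := hW ▸ quasiCompact_prodInterior t f hISt hX
  obtain ⟨h1, h2, h3, h4⟩ := hcentre K hK (fun W => ⟨IS.ideal W, rfl⟩) T t hb (pullback t f) (pullback.snd t f)
    (pullback.fst t f) (IsPullback.of_hasPullback t f).flip (ModPair.prodInterior t f (IS.comap t) IX).ι.ker
    (fun V a => by
      rw [hW]
      exact mem_ker_iff_killed (Groth.L13.Nagata.isFiniteType_comap
        (Groth.L13.Nagata.isFiniteType_comap hK.1 f) _) V a)
  refine ⟨T, t, ModPair.mprod t f (IS.comap t) IX, ModPair.mprodι t f (IS.comap t) IX ≫ pullback.snd t f,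
    ModPair.mprodι t f (IS.comap t) IX ≫ pullback.fst t f, hISt, hadm, hYeff, hy, ?_, h1, h2, h3, h4⟩
  rw [Category.assoc, Category.assoc, pullback.condition]

end Groth.L11.FlatRef
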