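import Groth.Agent.L11.FlatRef.Closure

/-!
# Admissible blow-ups are refined by flat morphisms
-/

set_option autoImplicit false
set_option linter.style.haveILetI false
set_option linter.unusedSectionVars false
set_option backward.isDefEq.respectTransparency false
set_option backward.isDefEq.respectTransparency.types false

universe u

open CategoryTheory CategoryTheory.Limits AlgebraicGeometry TopologicalSpace

noncomputable section

namespace Groth.L11.FlatRef

open Groth.L13.MP

theorem exists_refinement {X Y Y' : Scheme.{u}} [CompactSpace X]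
    [QuasiSeparatedSpace X] (IX : X.IdealSheafData) (IY : Y.IdealSheafData) (IY' : Y'.IdealSheafData)
    (hX : BlowUp.IsEffCartierIdeal IX) (hY : BlowUp.IsEffCartierIdeal IY)
    (hY' : BlowUp.IsEffCartierIdeal IY') (u : Y ⟶ X) (hu : ModPair.IsMinimal IY IX u) [Flat u]
    [LocallyOfFinitePresentation u] [QuasiCompact u] [QuasiSeparated u]
    (b : Y' ⟶ Y) (hb : ModPair.IsAdmBlowup IY' IY b) :
    ∃ (X' : Scheme.{u}) (IX' : X'.IdealSheafData) (a : X' ⟶ X) (V : Scheme.{u})
      (IV : V.IdealSheafData) (v : V ⟶ X') (w : V ⟶ Y'),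
      BlowUp.IsEffCartierIdeal IX' ∧ ModPair.IsAdmBlowup IX' IX a ∧
        BlowUp.IsEffCartierIdeal IV ∧ ModPair.IsMinimal IV IX' v ∧ Flat v ∧
        LocallyOfFinitePresentation v ∧ QuasiCompact v ∧ QuasiSeparated v ∧
        ModPair.IsAdmBlowup IV IY' w ∧ w ≫ b ≫ u = v ≫ a ∧
        (Surjective u → Surjective v) := by
  obtain ⟨hbm, hbp, hbi⟩ := hb
  haveI := hbp; haveI := hbi
  let U := ModPair.interior IX
  have hUY : u ⁻¹ᵁ U = ModPair.interior IY := (minimal_interior hu).symm
  haveI : CompactSpace Y := QuasiCompact.compactSpace_of_compactSpace u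
  haveI : QuasiSeparatedSpace Y := quasiSeparatedSpace_of_quasiSeparated u
  haveI : CompactSpace Y' := QuasiCompact.compactSpace_of_compactSpace b
  haveI : QuasiSeparatedSpace Y' := quasiSeparatedSpace_of_quasiSeparated b
  haveI : IsIso (b ∣_ (u ⁻¹ᵁ U)) := by rw [hUY]; exact hbi
  haveI : Flat (u ∣_ U) := IsZariskiLocalAtTarget.restrict (P := @Flat) inferInstance U
  haveI : LocallyOfFinitePresentation (u ∣_ U) :=
    IsZariskiLocalAtTarget.restrict (P := @LocallyOfFinitePresentation) inferInstance U
  haveI : Flat ((b ≫ u) ∣_ ModPair.interior IX) := by rw [morphismRestrict_comp]; infer_instance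
  haveI : LocallyOfFinitePresentation ((b ≫ u) ∣_ ModPair.interior IX) := by
    rw [morphismRestrict_comp]; infer_instance
  haveI : LocallyOfFiniteType (b ≫ u) := inferInstance
  have hmin : ModPair.IsMinimal IY' IX (b ≫ u) := by
    show IY' = IX.comap (b ≫ u)
    rw [Scheme.IdealSheafData.comap_comp, ← show IY = IX.comap u from hu]
    exact hbm
  obtain ⟨T, t, V, w, v, hT, ht, hV, hw, hcomm, hfl, hfp, hqc, hqs⟩ :=
    exists_square IX IY' hX hY' (b ≫ u) hmin
  refine ⟨T, IX.comap t, t, V, IY'.comap w, v, w, hT, ht, hV, ?_, hfl, hfp, hqc, hqs, hw, hcomm, fun hus => ?_⟩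
  · show IY'.comap w = (IX.comap t).comap v
    rw [show IY' = IX.comap (b ≫ u) from hmin, ← Scheme.IdealSheafData.comap_comp, hcomm,
      Scheme.IdealSheafData.comap_comp]
  haveI := hus
  obtain ⟨-, htp, hti⟩ := ht
  obtain ⟨-, hwp, hwi⟩ := hw
  haveI := htp; haveI := hti; haveI := hwp; haveI := hwi
  let φ : V ⟶ pullback t u := pullback.lift v (w ≫ b) (by rw [Category.assoc, ← hcomm])
  have hφfst : φ ≫ pullback.fst t u = v := pullback.lift_fst _ _ _
  have hφsnd : φ ≫ pullback.snd t u = w ≫ b := pullback.lift_snd _ _ _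
  haveI : IsProper (φ ≫ pullback.snd t u) := by rw [hφsnd]; infer_instance
  haveI : IsProper φ := IsProper.of_comp φ (pullback.snd t u)
  let O : (pullback t u).Opens := pullback.snd t u ⁻¹ᵁ ModPair.interior IY
  have hsub : (O : Set _) ⊆ Set.range φ := fun z hz => by
    haveI := isIso_snd_restrict t u U (ModPair.interior IY) hUY.ge
    obtain ⟨y', hy'⟩ := (b ∣_ ModPair.interior IY).surjective ⟨pullback.snd t u z, hz⟩
    have hy'2 : y'.1 ∈ ModPair.interior IY' := by
      rw [minimal_interior hbm]; exact y'.2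
    obtain ⟨x, hx⟩ := (w ∣_ ModPair.interior IY').surjective ⟨y'.1, hy'2⟩
    refine ⟨x.1, ?_⟩
    have e : pullback.snd t u (φ x.1) = pullback.snd t u z := by
      rw [← Scheme.Hom.comp_apply, hφsnd, Scheme.Hom.comp_apply]
      have h1 : w x.1 = y'.1 := by rw [← morphismRestrict_base_coe, hx]
      rw [h1, ← morphismRestrict_base_coe, hy']
    have hmem : φ x.1 ∈ O := show pullback.snd t u (φ x.1) ∈ ModPair.interior IY by rw [e]; exact hz
    have := (pullback.snd t u ∣_ ModPair.interior IY).homeomorph.injective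
      (a₁ := ⟨φ x.1, hmem⟩) (a₂ := ⟨z, hz⟩) (Subtype.ext (by
        show ((pullback.snd t u ∣_ ModPair.interior IY) ⟨φ x.1, hmem⟩).1 =
          ((pullback.snd t u ∣_ ModPair.interior IY) ⟨z, hz⟩).1
        rw [morphismRestrict_base_coe, morphismRestrict_base_coe]
        exact e))
    exact congrArg Subtype.val this
  have heff : BlowUp.IsEffCartierIdeal ((IX.comap t).comap (pullback.fst t u)) :=
    Groth.L22.Ideals.isEffCartier_comap_of_flat _ hT
  have hO : O = ModPair.interior ((IX.comap t).comap (pullback.fst t u)) := by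
    rw [← Scheme.IdealSheafData.comap_comp, pullback.condition, Scheme.IdealSheafData.comap_comp,
      ← show IY = IX.comap u from hu, interior_comap]
  have hdense : Dense (O : Set (pullback t u : Scheme.{u})) := by
    rw [hO]
    haveI := dominant_interior heff
    haveI := quasiCompact_interior heff
    have h := (ModPair.interior ((IX.comap t).comap (pullback.fst t u))).ι.denseRange
    rwa [DenseRange, Scheme.Opens.range_ι] at h
  have hφs : Function.Surjective φ := by
    rw [← Set.range_eq_univ]
    exact Set.eq_univ_of_univ_subset (hdense.closure_eq ▸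
      closure_minimal hsub φ.isClosedMap.isClosed_range)
  haveI : Surjective φ := ⟨hφs⟩
  rw [← hφfst]
  infer_instance

end Groth.L11.FlatRef
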